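import Cfsg.Agent.H345.SN.Co3
import Cfsg.Agent.H345.IRowM

/-!
# S3831, the Monster (helper345)

`g3_m : G3 Co1 → G3 B → G3 Suz → IsoM K → G3 K`.

The proof is the one of `H345/IRowM.lean`: `x` lies in `D = C(x₀)`, `D / rad D = Suz`, so `x` lies in the radical of `D` and
commutes with an involution, whose centralizer has the quotient `Co1` or `B`.
-/

set_option autoImplicit false

namespace Cfsg.Agent.H345.SN

open Cfsg Subgroup Cfsg.Agent.H459.Rad Cfsg.Agent.H21.SN Cfsg.Agent.H749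
open Cfsg.Agent.MonsterU Cfsg.Agent.LThree Cfsg.Agent.LThreeMB
open Cfsg.Agent.MonsterU.Ch
open Cfsg.Agent.MonsterU.Lam2 (L2 IsType)
open Cfsg.Agent.MonsterX.KSide Cfsg.Agent.MonsterX.KLift
open Cfsg.Spor (Co1)
open Cfsg.Agent.H345.IRowM (exists_x₀ center_eq_bot)

universe u

local instance : Fact (Nat.Prime 3) := ⟨Nat.prime_three⟩

section chart

variable {G : Type u} [Group G] {Q : Subgroup G} {z : G} {eta : G → L2}
  {pi : Subgroup.centralizer ({z} : Set G) →* Co1}

theorem ker_pi_solvable (h : Chart Q z eta pi) : Group.IsSolvable pi.ker := by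
  have := h.fin
  have h2 : Fact (Nat.Prime 2) := ⟨Nat.prime_two⟩
  have hQ : IsPGroup 2 Q := IsPGroup.of_card (n := 25) h.card_Q
  have hQs : Group.IsSolvable Q := by
    have := hQ.isNilpotent
    infer_instance
  exact Group.isSolvable_of_isSolvable_injective
    (f := ((centralizer ({z} : Set G)).subtype.comp pi.ker.subtype).codRestrict Q fun k => (h.pi_eq_one _).1 k.2)
    (fun a b hab => by
      have h1 : ((a : ↥(centralizer ({z} : Set G))) : G) = ((b : ↥(centralizer ({z} : Set G))) : G) :=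
        congrArg (fun t : ↥Q => (t : G)) hab
      exact Subtype.ext (Subtype.ext h1))

theorem ker_pi_three (h : Chart Q z eta pi) (g : ↥(centralizer ({z} : Set G))) (hg : pi g = 1) : orderOf g ≠ 3 := by
  intro ho
  apply not_three_dvd h
  have h1 : (g : G) ∈ Q := (h.pi_eq_one g).1 hg
  have h2 := Subgroup.orderOf_dvd_natCard Q h1
  rwa [Subgroup.orderOf_coe, ho] at h2

end chart

section lift

variable {G : Type u} {V P W : Type*} [Group G] [AddCommGroup V] [Module ℚ V]
  [DistribMulAction G V] [SMulCommClass G ℚ V] [Group P] [AddCommGroup W] [Module ℚ W]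
  {M : KS G V P W} {θ : leechLattice → P}

theorem inn_of_lift [Finite G] [IsSimpleGroup G] (L : Lift M θ) (hc : KChart.Cent M) (I : CoOne)
    (h0 : ClassOf 1) (ht : TrNe M.z (KChart.pi hc)) (hpair : HasPair M.z (KChart.pi hc))
    (hex : ∀ x : G, orderOf x = 3 → (∃ v : G, v * v = 1 ∧ v ≠ 1 ∧ v * x = x * v) →
      ∃ g : G, (g * M.z * g⁻¹) * x = x * (g * M.z * g⁻¹))
    {t : G} (two : ∀ u : G, u * u = 1 → u ≠ 1 → (∃ g, g * M.z * g⁻¹ = u) ∨ ∃ g, g * t * g⁻¹ = u)
    (hcard : 3 ^ 20 ∣ Nat.card G) (hcard' : ¬ 3 ^ 21 ∣ Nat.card G)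
    (hC2 : Nat.card (center ↥(centralizer ({t} : Set G))) = 2)
    (e : ↥(centralizer ({t} : Set G)) ⧸ center ↥(centralizer ({t} : Set G)) ≃* Spor.BabyMonster)
    (hCo : H21.SN.G3 Co1) (hB : H21.SN.G3 Spor.BabyMonster) (hSuz : H21.SN.G3 Spor.Suz) : G3Inn G := by
  intro x hX
  have hxo := hX.ord
  have h := KChart.chart L hc
  -- the simple quotients
  have hfCo : Finite Co1 := Finite.of_surjective _ h.pi_surj
  have hsCo : IsSimpleGroup Co1 := Cfsg.Agent.S0399.result.1
  have hzCo : center Co1 = ⊥ := center_eq_bot (by rw [Cfsg.Agent.S0399.result.2]; norm_num)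
  have hsB : IsSimpleGroup Spor.BabyMonster := Cfsg.Agent.S1704.result.1
  have hfB : Finite Spor.BabyMonster := Finite.of_equiv _ e.toEquiv
  have hzB : center Spor.BabyMonster = ⊥ := center_eq_bot (by rw [Cfsg.Agent.S1704.result.2]; norm_num)
  let f : ↥(centralizer ({t} : Set G)) →* Spor.BabyMonster :=
    e.toMonoidHom.comp (QuotientGroup.mk' (center ↥(centralizer ({t} : Set G))))
  have hf : Function.Surjective f := e.surjective.comp (QuotientGroup.mk'_surjective _)
  have hfk : ∀ g, f g = 1 → g ∈ center ↥(centralizer ({t} : Set G)) := fun g hg =>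
    (QuotientGroup.eq_one_iff _).1 (e.map_eq_one_iff.1 hg)
  have hfs : Group.IsSolvable f.ker := Group.isSolvable_of_comm fun a b =>
    Subtype.ext ((mem_center_iff.1 (hfk _ a.2) b).symm)
  have hf3 : ∀ g, f g = 1 → orderOf g ≠ 3 := by
    intro g hg ho
    have h3 := Subgroup.orderOf_dvd_natCard _ (hfk g hg)
    rw [hC2, ho] at h3
    norm_num at h3
  -- bad elements commute with no involution
  have hno : ∀ x : G, Bad x → ∀ v : G, v * v = 1 → v ≠ 1 → v * x = x * v → False := by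
    intro x hx v hv hv1 hvx
    rcases two v hv hv1 with ⟨g, hg⟩ | ⟨g, hg⟩
    · exact hx.false_of_comm_conj hg hvx.symm _ h.pi_surj (ker_pi_solvable h) (ker_pi_three h) hCo hzCo
    · exact hx.false_of_comm_conj hg hvx.symm f hf hfs hf3 hB hzB
  obtain ⟨x₀, hx₀, hfr₀, hidx⟩ := exists_x₀ h I h0 ht hpair hex hcard
  have hx₀o : orderOf (x₀ : G) = 3 := by rw [Subgroup.orderOf_coe]; exact hx₀
  -- a conjugate of `x` in `C(x₀)`
  have hconj : ∃ g : G, g * x * g⁻¹ ∈ centralizer ({(x₀ : G)} : Set G) := by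
    set D := centralizer ({(x₀ : G)} : Set G) with hDdef
    obtain ⟨S⟩ : Nonempty (Sylow 3 D) := inferInstance
    have hS : IsPGroup 3 ↥((S : Subgroup D).map D.subtype) := S.isPGroup'.map _
    have hci : ¬ 3 ∣ ((S : Subgroup D).map D.subtype).index := by
      rw [← relIndex_mul_index (map_subtype_le (S : Subgroup D)), Nat.prime_three.dvd_mul, not_or]
      refine ⟨?_, hidx⟩
      have h1 : ((S : Subgroup D).map D.subtype).relIndex D = (S : Subgroup D).index := by
        rw [relIndex, subgroupOf, comap_map_eq_self_of_injective D.subtype_injective]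
      rw [h1]
      exact S.not_dvd_index
    let P' : Sylow 3 G := hS.toSylow hci
    have hx : IsPGroup 3 ↥(zpowers x) := IsPGroup.of_card (n := 1) (by rw [Nat.card_zpowers, hxo, pow_one])
    obtain ⟨P'', hP''⟩ := hx.exists_le_sylow
    obtain ⟨g, hg⟩ := MulAction.exists_smul_eq G P'' P'
    refine ⟨g, ?_⟩
    have h1 : g * x * g⁻¹ ∈ (P' : Subgroup G) := by
      rw [← hg, Sylow.coe_subgroup_smul]
      exact smul_mem_pointwise_smul x (MulAut.conj g) _ (hP'' (mem_zpowers x))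
    exact map_subtype_le (S : Subgroup D) h1
  obtain ⟨g, hg⟩ := hconj
  have hX' := hX.conj g
  have hxo' := hX'.ord
  have hDat := Cfsg.Agent.BpSpor.MThree.dat_zero L hc ht hx₀ hfr₀ (I.suz _ (orderOf_pi h hx₀) hfr₀)
  -- the radical of `C(x₀)`
  have hrad : (⟨g * x * g⁻¹, hg⟩ : ↥(centralizer ({(x₀ : G)} : Set G))) ∈
      solvableRadical ↥(centralizer ({(x₀ : G)} : Set G)) := by
    obtain ⟨eS⟩ := hDat.suz
    have hXs := hDat.simple
    have hXc := hDat.card
    have hXf : Finite _ := Finite.of_surjective _ hDat.surj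
    obtain ⟨N, F, -, -, -, -, -, hFs, hFk⟩ := Cfsg.Agent.BpSpor.MThree.exists_hom
      (fun K _ _ hK => Cfsg.Agent.S0205.result hK) hDat.ord hDat.iso hXs (by rw [hXc]; decide) _ hDat.surj
      (Cfsg.Agent.BpSpor.MThree.ker_solvable hDat.ker)
    have hfS : Finite Spor.Suz := Finite.of_equiv _ eS.toEquiv
    exact hX'.mem_radical hg F hFs hFk (H21.SN.G3.congr eS hSuz) (center_eq_bot (by rw [hXc]; norm_num))
  obtain ⟨s, hs2, hs1, hsy⟩ := MOrb.exists_inv hDat (Cfsg.Agent.BpSpor.BThree.not_nine h hx₀ hfr₀)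
    (fun h1 => hcard' (h1.trans (card_subgroup_dvd_card _)))
    (x₀ := (⟨(x₀ : G), mem_centralizer_singleton_iff.2 rfl⟩ : ↥(centralizer ({(x₀ : G)} : Set G))))
    (by rw [Subgroup.orderOf_mk]; exact hx₀o)
    (fun d => Subtype.ext (mem_centralizer_singleton_iff.1 d.2))
    (y := ⟨g * x * g⁻¹, hg⟩) (Subtype.ext (by
      show (g * x * g⁻¹) ^ 3 = 1
      rw [← hxo', pow_orderOf_eq_one])) hrad
  exact hno _ hX' s (congrArg Subtype.val hs2) (fun h1 => hs1 (Subtype.ext h1)) (congrArg Subtype.val hsy)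

end lift

/-! ### The model -/

open Cfsg.Agent.MonsterX Cfsg.Agent.MonsterX.InstData Cfsg.Agent.MonsterX.MainPack
open Cfsg.Agent.MonsterP Cfsg.Agent.MonsterN
open Cfsg.Agent.MonsterX.MainBasic Cfsg.Agent.MonsterX.MainSimple Cfsg.Agent.MonsterX.Model

theorem inn_m_model (hCo : H21.SN.G3 Co1) (hB : H21.SN.G3 Spor.BabyMonster) (hSuz : H21.SN.G3 Spor.Suz) :
    G3Inn ↥InstData.M.G := by
  have := Row.finite_model
  have := Row.simple_model
  obtain ⟨⟨h1, -, ⟨e⟩⟩, -⟩ := ModelB.fieldsKS LitFin.all KDone.lnk KDone.lft (NodesGrp.prel LitFin.H)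
    (NodesNe.ne LitFin.H) LitFin.conj_ten Cfsg.Agent.S1704.result KDone.lnk.x₀_mem
  obtain ⟨A, B, F⟩ := LThreeM.SigRow.facts_model
  refine inn_of_lift KDone.lft Row.cent CoOneFin.coOne LThreeCo1.Ranks.zero
    (KPair.trNe KDone.lft Row.cent (LThreeMBTr.traceNe KDone.lft LThreeMBTr.TensK.tens))
    (KPair.hasPair KDone.lft Row.cent Row.second COct.octPair) ?_ (t := KDone.K.ι KLinkInst.x₀) ?_ ?_ ?_
    h1 e hCo hB hSuz
  · rintro x hx ⟨v, hv, hv1, hc⟩
    exact LThreeM.FiRow.exists_z_of_comm (by rw [← hx, pow_orderOf_eq_one]) hv hv1 hc.symm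
  · intro u huu hu1
    rcases MFive.Row.two u huu hu1 with h | ⟨g, hg⟩
    · exact Or.inl h
    · right
      obtain ⟨k, hk⟩ := ModelB.exists_conj_t KDone.mGroup KDone.mRep KDone.lnk KDone.lft KDone.lnk.x₀_mem
      refine ⟨g * k⁻¹, ?_⟩
      rw [← hk, ← hg]
      group
  · rw [F.card]
    norm_num
  · rw [F.card]
    norm_num

/-- **The Monster** from `Co1`, `B` and `Suz` -/
theorem g3_m (hCo : H21.SN.G3 Co1) (hB : H21.SN.G3 Spor.BabyMonster) (hSuz : H21.SN.G3 Spor.Suz) {K : Type*} [Group K]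
    [Finite K] (h : Cfsg.Spor.IsoM K) : H21.SN.G3 K := by
  have hfin := Row.finite_model
  have hsim := Row.simple_model
  obtain ⟨A, B, F⟩ := LThreeM.SigRow.facts_model
  have hZ : center ↥InstData.M.G = ⊥ := center_eq_bot (by rw [F.card]; norm_num)
  obtain ⟨f⟩ := Cfsg.Agent.MonsterP.Equiv.equiv
  have hI : Cfsg.Spor.IsoM ↥InstData.M.G := ⟨f.symm⟩
  obtain ⟨e⟩ := h
  exact H21.SN.G3.congr (e.trans f) (G3Inn.g3 hZ
    (Cfsg.Agent.BpSpor.Inn.m hI 3 Nat.prime_three (by norm_num)) (inn_m_model hCo hB hSuz))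

end Cfsg.Agent.H345.SN
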